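import Cfsg.Agent.Lib.PG.Gen

set_option autoImplicit false
set_option maxRecDepth 100000
set_option Elab.async false
set_option exponentiation.threshold 100000

namespace Cfsg.Agent.Spor.LyB
open Cfsg.Agent.PG

noncomputable def n0 : Net :=
 .nil

noncomputable def n1 : Net :=
 .nil

noncomputable def n2 : Net :=
 .nil

noncomputable def n3 : Net :=
 .nil

noncomputable def n4 : Net :=
 .nil

noncomputable def n5 : Net :=
 .nil

noncomputable def n6 : Net :=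
 (.cons 8 0x10
 (.cons 4 0x404
 (.cons 2 0x1000
 (.cons 1 0x101
 (.cons 4 0x400
 (.cons 8 0x10
 .nil))))))

noncomputable def n7 : Net :=
 (.cons 8 0x2
 (.cons 4 0xe
 (.cons 2 0x222
 (.cons 1 0x414
 (.cons 2 0x220
 (.cons 4 0x4
 (.cons 8 0x4
 .nil)))))))

noncomputable def n8 : Net :=
 (.cons 8 0x3
 (.cons 4 0x8
 (.cons 2 0x10
 (.cons 1 0x11
 (.cons 2 0x21
 (.cons 4 0x2
 (.cons 8 0x7
 .nil)))))))

noncomputable def n9 : Net :=
 (.cons 8 0x7
 (.cons 4 0x5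
 (.cons 1 0x41
 (.cons 2 0x21
 (.cons 8 0x7
 .nil)))))

noncomputable def n10 : Net :=
 (.cons 8 0x6
 (.cons 4 0x6
 (.cons 2 0x12
 (.cons 1 0x14
 (.cons 4 0xc
 (.cons 8 0x6
 .nil))))))

noncomputable def n11 : Net :=
 (.cons 8 0x88
 (.cons 4 0x800
 (.cons 2 0x220
 (.cons 1 0x440
 (.cons 2 0x20
 (.cons 8 0x88
 .nil))))))

noncomputable def n12 : Net :=
 (.cons 8 0x2
 (.cons 4 0xa
 (.cons 2 0x20
 (.cons 1 0x40
 (.cons 8 0x2
 .nil)))))

noncomputable def n13 : Net :=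
 (.cons 8 0x2
 (.cons 2 0x20
 (.cons 4 0x2
 (.cons 8 0x2
 .nil))))

noncomputable def n14 : Net :=
 (.cons 8 0x2
 (.cons 4 0x2
 (.cons 1 0x40
 (.cons 2 0x20
 (.cons 4 0x2
 (.cons 8 0x2
 .nil))))))

noncomputable def A : List Net := [n0, n1, n2, n3, n4, n5, n6, n7, n8, n9, n10, n11, n12, n13, n14]

theorem hA : okA (2 ^ 4) A = true := by decide +kernel

theorem hlen : A.length = 15 := rfl

def tr8 : List ℕ := [1, 0x11c, 0x11d]

def ce8 : List (List (ℕ × ℕ)) := [[(1, 1)],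
  [(2, 1)],
  [(0, 1)]]

noncomputable def cl8_l : List Claim := plainClaims 14 tr8 ce8

def tr7 : List ℕ := [1, 0x11a, 0x11b, 0x11a1c]

def ce7 : List (List (ℕ × ℕ)) := [[(1, 1), (0, 0x11d)],
  [(2, 1), (3, 1)],
  [(0, 1), (1, 0x11c)],
  [(3, 0x11d), (2, 0x11d)]]

noncomputable def cl7_l : List Claim := plainClaims 13 tr7 ce7

def tr6 : List ℕ := [1, 0x118, 0x119, 0x11818, 0x1181b]

def ce6 : List (List (ℕ × ℕ)) := [[(1, 1), (0, 0x11b), (0, 0x11d)],
  [(3, 1), (2, 0x11a), (4, 0x11d)],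
  [(0, 1), (4, 0x11b), (2, 0x11d1a1c)],
  [(4, 0x11a1c), (3, 0x11d1b), (1, 0x11c1a)],
  [(2, 0x11d1b), (1, 1), (3, 0x11b)]]

noncomputable def cl6_l : List Claim := plainClaims 12 tr6 ce6

def tr5 : List ℕ := [1, 0x116, 0x117, 0x11616, 0x11618, 0x11619]

def ce5 : List (List (ℕ × ℕ)) := [[(1, 1), (0, 0x119), (0, 0x11b), (0, 0x11d)],
  [(3, 1), (4, 1), (3, 0x11b1818), (5, 0x11d)],
  [(0, 1), (3, 0x11a1c19), (2, 0x11c1a18), (2, 0x11d1a1c19)],
  [(2, 1), (5, 0x11a1c18), (4, 0x11a18), (1, 0x11d18)],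
  [(5, 0x11d1a1c1818), (2, 0x11818), (1, 0x11d1a), (4, 0x11b)],
  [(4, 0x1181b), (1, 1), (5, 0x11a1c), (3, 0x11d1a1c19)]]

noncomputable def cl5_l : List Claim := plainClaims 11 tr5 ce5

def cj4 : List ℕ := [0x11d1a1c181616, 0x11c1a1917, 0x11d1a19]

def reps4 : List Rep := [⟨1, [(0x116, 0x116), (0x118, 0x118), (0x11a, 0x11a), (0x11c, 0x11c)],
   [(1, 1, 1, 1)], 3⟩,
  ⟨0x114, [(0x11d17, 0x11d1b1818)],
   [(1, 0x11616, 1, 0x11d181b16),
    (0x117, 1, 0, 0x11a1c1816)], 5⟩]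

noncomputable def cl4_l : List Claim := dcClaims 10 12 cj4 reps4

def cj3 : List ℕ := [0x11d1a1c181b161418, 0x11c1b18161615, 0x11d1a1c18181418, 0x11d18161416]

def reps3 : List Rep := [⟨1, [(0x114, 0x114), (0x116, 0x116), (0x118, 0x118), (0x11a, 0x11a), (0x11c, 0x11c)],
   [(1, 1, 1, 1)], 3⟩,
  ⟨0x112, [(0x11518, 0x11a181b16), (0x11715, 0x11c1a181b1616)],
   [(1, 0x115, 1, 0x11c1a1c19161416),
    (0x11815, 1, 0, 0x11c1a1c181b16161419)], 4⟩]

noncomputable def cl3_l : List Claim := dcClaims 9 11 cj3 reps3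

def cj2 : List ℕ := [0x1181816181218, 0x11d1a1c191619141913, 0x11d1b1614141212, 0x11c1a1c181816181418121215, 0x116181419]

def reps2 : List Rep := [⟨1, [(0x112, 0x112), (0x114, 0x114), (0x116, 0x116), (0x118, 0x118), (0x11a, 0x11a), (0x11c, 0x11c)],
   [(1, 1, 1, 1)], 3⟩,
  ⟨0x110, [(0x11512, 0x11c1816161414)],
   [(1, 0x112, 1, 0x11d1b181b141613),
    (0x11412, 1, 0, 0x11d1a18181614181315)], 7⟩]

noncomputable def cl2_l : List Claim := dcClaims 8 10 cj2 reps2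

def cj1 : List ℕ := [0x11c1b19141310, 0x11d1a1c1616141412141017, 0x11d1a181b171414121410, 0x11c1a1c181816161418, 0x11c1b181b14, 0x11d1a1c1815]

def reps1 : List Rep := [⟨1, [(0x110, 0x110), (0x112, 0x112), (0x114, 0x114), (0x116, 0x116), (0x118, 0x118), (0x11a, 0x11a), (0x11c, 0x11c)],
   [(1, 1, 1, 1)], 3⟩,
  ⟨0x10e, [(0x11d11, 0x11a1c181b141612), (0x1171d, 0x1181b16191414)],
   [(1, 0x11010, 1, 0x11c1b19161815131013),
    (0x1171111, 1, 0, 0x11c1a181b14181218101016)], 4⟩]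

noncomputable def cl1_l : List Claim := dcClaims 7 9 cj1 reps1

def cj0 : List ℕ := [0x11d191715121810, 0x11c1a1c181b16191315101016, 0x11d1a1c191619141812181013, 0x11d1916161418131013, 0x11d181b1616141811, 0x11d191619151212, 0x11c1614141214101016]

def reps0 : List Rep := [⟨1, [(0x10e, 0x10e), (0x110, 0x110), (0x112, 0x112), (0x114, 0x114), (0x116, 0x116), (0x118, 0x118), (0x11a, 0x11a), (0x11c, 0x11c)],
   [(1, 1, 1, 1)], 3⟩,
  ⟨0x10c, [(0x110, 0x11d191715121810)],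
   [(1, 1, 0, 1),
    (0x10f, 0x10e10, 1, 0x11c1a16191512121010160e10)], 9⟩]

noncomputable def cl0_l : List Claim := dcClaims 6 8 cj0 reps0

def zcs0 : List (List ℕ × List ℕ × ℕ) := [([0x0238], [0x11c1412120c, 0x11919], 1)]

noncomputable def zcls0_l : List Claim := zClaims [0x021e1a] zcs0

noncomputable def yp0_l : List Claim := [(powP [0x021e1a] 11, [])]

theorem cl8_0 : chk A 4 (cl8_l) = true := by decide +kernel

theorem ok8 : plainOK A 14 15 7 tr8 ce8 = true := by decide +kernel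

theorem orb8 : orbCardB A 1 14 7 3 3 = true := by decide +kernel

theorem cl7_0 : chk A 4 (cl7_l) = true := by decide +kernel

theorem ok7 : plainOK A 13 14 5 tr7 ce7 = true := by decide +kernel

theorem orb7 : orbCardB A 1 13 5 3 4 = true := by decide +kernel

theorem cl6_0 : chk A 4 (cl6_l) = true := by decide +kernel

theorem ok6 : plainOK A 12 13 3 tr6 ce6 = true := by decide +kernel

theorem orb6 : orbCardB A 1 12 3 3 5 = true := by decide +kernel

theorem cl5_0 : chk A 4 (cl5_l) = true := by decide +kernel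

theorem ok5 : plainOK A 11 12 10 tr5 ce5 = true := by decide +kernel

theorem orb5 : orbCardB A 1 11 10 3 6 = true := by decide +kernel

theorem cl4_0 : chk A 4 (cl4_l) = true := by decide +kernel

theorem ok4 : dcOK A 10 12 4 10 3 cj4 reps4 = true := by decide +kernel

theorem orb4 : orbCardB A 1 10 4 3 7 = true := by decide +kernel

theorem cl3_0 : chk A 4 (cl3_l) = true := by decide +kernel

theorem ok3 : dcOK A 9 11 8 4 3 cj3 reps3 = true := by decide +kernel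

theorem orb3 : orbCardB A 1 9 8 3 8 = true := by decide +kernel

theorem cl2_0 : chk A 4 (cl2_l) = true := by decide +kernel

theorem ok2 : dcOK A 8 10 2 8 3 cj2 reps2 = true := by decide +kernel

theorem orb2 : orbCardB A 1 8 2 3 9 = true := by decide +kernel

theorem cl1_0 : chk A 4 (cl1_l) = true := by decide +kernel

theorem ok1 : dcOK A 7 9 1 2 3 cj1 reps1 = true := by decide +kernel

theorem orb1 : orbCardB A 1 7 1 3 10 = true := by decide +kernel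

theorem cl0_0 : chk A 4 (cl0_l) = true := by decide +kernel

theorem ok0 : dcOK A 6 8 0 1 3 cj0 reps0 = true := by decide +kernel

theorem orb0 : orbCardB A 1 6 0 3 11 = true := by decide +kernel

theorem maxok0 : maxOK A 6 7 0 3 3 3 [0x10c] = true := by decide +kernel

theorem ncloks0_8 : nclOK A 14 15 7 3 [[0x0238]] [(1, 0)] = true := by decide +kernel

theorem ncloks0_7 : nclOK A 13 14 5 3 [] [(1, 0), (0x11a1c, 0)] = true := by decide +kernel

theorem ncloks0_6 : nclOK A 12 13 3 4 [] [(1, 0), (1, 1), (0x1181b, 0)] = true := by decide +kernel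

theorem ncloks0_5 : nclOK A 11 12 10 3 [] [(1, 0), (1, 1), (1, 2), (0x11619, 0)] = true := by decide +kernel

theorem ncloks0_4 : nclOK A 10 11 4 4 [] [(1, 0), (1, 1), (1, 2), (1, 3), (0x11418, 0)] = true := by decide +kernel

theorem ncloks0_3 : nclOK A 9 10 8 4 [] [(1, 0), (1, 1), (1, 2), (1, 3), (1, 4), (0x1121215, 2)] = true := by decide +kernel

theorem ncloks0_2 : nclOK A 8 9 2 4 [] [(1, 0), (1, 1), (1, 2), (1, 3), (1, 4), (1, 5), (0x110, 0)] = true := by decide +kernel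

theorem ncloks0_1 : nclOK A 7 8 1 4 [] [(1, 0), (1, 1), (1, 2), (1, 3), (1, 4), (1, 5), (1, 6), (0x10f11, 6)] = true := by decide +kernel

theorem ncloks0_0 : nclOK A 6 7 0 4 [] [(1, 0), (1, 1), (1, 2), (1, 3), (1, 4), (1, 5), (1, 6), (1, 7), (0x10c0e0e, 0)] = true := by decide +kernel

theorem zcls0_0 : chk A 4 (zcls0_l) = true := by decide +kernel

theorem yp0_0 : chk A 4 (yp0_l) = true := by decide +kernel

theorem card9 : Nat.card (K A 15) = 1 := card_K_last A (le_of_eq hlen)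

theorem cl8 : ∀ c ∈ cl8_l, Holds A c :=
  (chk_spec hA cl8_0)

theorem stab8 : StabIs A 14 7 15 := stabIs_plain hA ok8 cl8

theorem card8 : Nat.card (K A 14) = 3 := card_K_step hA stab8 orb8 card9

theorem cl7 : ∀ c ∈ cl7_l, Holds A c :=
  (chk_spec hA cl7_0)

theorem stab7 : StabIs A 13 5 14 := stabIs_plain hA ok7 cl7

theorem card7 : Nat.card (K A 13) = 12 := card_K_step hA stab7 orb7 card8

theorem cl6 : ∀ c ∈ cl6_l, Holds A c :=
  (chk_spec hA cl6_0)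

theorem stab6 : StabIs A 12 3 13 := stabIs_plain hA ok6 cl6

theorem card6 : Nat.card (K A 12) = 60 := card_K_step hA stab6 orb6 card7

theorem cl5 : ∀ c ∈ cl5_l, Holds A c :=
  (chk_spec hA cl5_0)

theorem stab5 : StabIs A 11 10 12 := stabIs_plain hA ok5 cl5

theorem card5 : Nat.card (K A 11) = 360 := card_K_step hA stab5 orb5 card6

theorem cl4 : ∀ c ∈ cl4_l, Holds A c :=
  (chk_spec hA cl4_0)

theorem stab4 : StabIs A 10 4 11 := stabIs_dc hA stab5 ok4 cl4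

theorem card4 : Nat.card (K A 10) = 2520 := card_K_step hA stab4 orb4 card5

theorem cl3 : ∀ c ∈ cl3_l, Holds A c :=
  (chk_spec hA cl3_0)

theorem stab3 : StabIs A 9 8 10 := stabIs_dc hA stab4 ok3 cl3

theorem card3 : Nat.card (K A 9) = 20160 := card_K_step hA stab3 orb3 card4

theorem cl2 : ∀ c ∈ cl2_l, Holds A c :=
  (chk_spec hA cl2_0)

theorem stab2 : StabIs A 8 2 9 := stabIs_dc hA stab3 ok2 cl2

theorem card2 : Nat.card (K A 8) = 181440 := card_K_step hA stab2 orb2 card3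

theorem cl1 : ∀ c ∈ cl1_l, Holds A c :=
  (chk_spec hA cl1_0)

theorem stab1 : StabIs A 7 1 8 := stabIs_dc hA stab2 ok1 cl1

theorem card1 : Nat.card (K A 7) = 1814400 := card_K_step hA stab1 orb1 card2

theorem cl0 : ∀ c ∈ cl0_l, Holds A c :=
  (chk_spec hA cl0_0)

theorem stab0 : StabIs A 6 0 7 := stabIs_dc hA stab1 ok0 cl0

theorem card0 : Nat.card (K A 6) = 19958400 := card_K_step hA stab0 orb0 card1

theorem fixTriv0 {B : Set ℕ} (h0 : 0 ∈ B) (h1 : 1 ∈ B) (h2 : 2 ∈ B) (h3 : 8 ∈ B) (h4 : 4 ∈ B) (h5 : 10 ∈ B) (h6 : 3 ∈ B) (h7 : 5 ∈ B) (h8 : 7 ∈ B) : FixTriv (K A 6) B :=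
  fixTriv_step stab0 h0 <| fixTriv_step stab1 h1 <| fixTriv_step stab2 h2 <| fixTriv_step stab3 h3 <| fixTriv_step stab4 h4 <| fixTriv_step stab5 h5 <| fixTriv_step stab6 h6 <| fixTriv_step stab7 h7 <| fixTriv_step stab8 h8 <| fixTriv_last A (le_of_eq hlen) B

theorem fixTriv1 {B : Set ℕ} (h1 : 1 ∈ B) (h2 : 2 ∈ B) (h3 : 8 ∈ B) (h4 : 4 ∈ B) (h5 : 10 ∈ B) (h6 : 3 ∈ B) (h7 : 5 ∈ B) (h8 : 7 ∈ B) : FixTriv (K A 7) B :=
  fixTriv_step stab1 h1 <| fixTriv_step stab2 h2 <| fixTriv_step stab3 h3 <| fixTriv_step stab4 h4 <| fixTriv_step stab5 h5 <| fixTriv_step stab6 h6 <| fixTriv_step stab7 h7 <| fixTriv_step stab8 h8 <| fixTriv_last A (le_of_eq hlen) B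

theorem fixTriv2 {B : Set ℕ} (h2 : 2 ∈ B) (h3 : 8 ∈ B) (h4 : 4 ∈ B) (h5 : 10 ∈ B) (h6 : 3 ∈ B) (h7 : 5 ∈ B) (h8 : 7 ∈ B) : FixTriv (K A 8) B :=
  fixTriv_step stab2 h2 <| fixTriv_step stab3 h3 <| fixTriv_step stab4 h4 <| fixTriv_step stab5 h5 <| fixTriv_step stab6 h6 <| fixTriv_step stab7 h7 <| fixTriv_step stab8 h8 <| fixTriv_last A (le_of_eq hlen) B

theorem fixTriv3 {B : Set ℕ} (h3 : 8 ∈ B) (h4 : 4 ∈ B) (h5 : 10 ∈ B) (h6 : 3 ∈ B) (h7 : 5 ∈ B) (h8 : 7 ∈ B) : FixTriv (K A 9) B :=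
  fixTriv_step stab3 h3 <| fixTriv_step stab4 h4 <| fixTriv_step stab5 h5 <| fixTriv_step stab6 h6 <| fixTriv_step stab7 h7 <| fixTriv_step stab8 h8 <| fixTriv_last A (le_of_eq hlen) B

theorem fixTriv4 {B : Set ℕ} (h4 : 4 ∈ B) (h5 : 10 ∈ B) (h6 : 3 ∈ B) (h7 : 5 ∈ B) (h8 : 7 ∈ B) : FixTriv (K A 10) B :=
  fixTriv_step stab4 h4 <| fixTriv_step stab5 h5 <| fixTriv_step stab6 h6 <| fixTriv_step stab7 h7 <| fixTriv_step stab8 h8 <| fixTriv_last A (le_of_eq hlen) B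

theorem fixTriv5 {B : Set ℕ} (h5 : 10 ∈ B) (h6 : 3 ∈ B) (h7 : 5 ∈ B) (h8 : 7 ∈ B) : FixTriv (K A 11) B :=
  fixTriv_step stab5 h5 <| fixTriv_step stab6 h6 <| fixTriv_step stab7 h7 <| fixTriv_step stab8 h8 <| fixTriv_last A (le_of_eq hlen) B

theorem fixTriv6 {B : Set ℕ} (h6 : 3 ∈ B) (h7 : 5 ∈ B) (h8 : 7 ∈ B) : FixTriv (K A 12) B :=
  fixTriv_step stab6 h6 <| fixTriv_step stab7 h7 <| fixTriv_step stab8 h8 <| fixTriv_last A (le_of_eq hlen) B

theorem fixTriv7 {B : Set ℕ} (h7 : 5 ∈ B) (h8 : 7 ∈ B) : FixTriv (K A 13) B :=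
  fixTriv_step stab7 h7 <| fixTriv_step stab8 h8 <| fixTriv_last A (le_of_eq hlen) B

theorem fixTriv8 {B : Set ℕ} (h8 : 7 ∈ B) : FixTriv (K A 14) B :=
  fixTriv_step stab8 h8 <| fixTriv_last A (le_of_eq hlen) B

theorem max0 (L : Subgroup (Equiv.Perm ℕ)) (h1 : K A 7 ≤ L) (h2 : L ≤ K A 6) : L = K A 7 ∨ L = K A 6 :=
  max_spec hA stab0 maxok0 h1 h2

theorem zcls0 : ∀ c ∈ zcls0_l, Holds A c :=
  (chk_spec hA zcls0_0)

theorem ncls0 (M : Subgroup (Equiv.Perm ℕ)) (hM : ∀ σ ∈ K A 6, ∀ n ∈ M, σ * n * σ⁻¹ ∈ M) (hy : pp A [0x021e1a] ∈ M) : K A 6 ≤ M :=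
  have hz := z_mem hM hy (zc := zcs0) (by decide +kernel) zcls0
  ncl_step hA stab0 ncloks0_0 (by decide) hM (sub_z hz (by decide +kernel)) <|
  ncl_step hA stab1 ncloks0_1 (by decide) hM (sub_z hz (by decide +kernel)) <|
  ncl_step hA stab2 ncloks0_2 (by decide) hM (sub_z hz (by decide +kernel)) <|
  ncl_step hA stab3 ncloks0_3 (by decide) hM (sub_z hz (by decide +kernel)) <|
  ncl_step hA stab4 ncloks0_4 (by decide) hM (sub_z hz (by decide +kernel)) <|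
  ncl_step hA stab5 ncloks0_5 (by decide) hM (sub_z hz (by decide +kernel)) <|
  ncl_step hA stab6 ncloks0_6 (by decide) hM (sub_z hz (by decide +kernel)) <|
  ncl_step hA stab7 ncloks0_7 (by decide) hM (sub_z hz (by decide +kernel)) <|
  ncl_step hA stab8 ncloks0_8 (by decide) hM (sub_z hz (by decide +kernel)) <|
  K_last_le A (le_of_eq hlen) M

theorem yp0 : ∀ c ∈ yp0_l, Holds A c :=
  (chk_spec hA yp0_0)

theorem simple0 : IsSimpleGroup (K A 6) :=
  isSimpleGroup_K hA stab0 (exists_moved hA (j := 6) (by decide +kernel)) max0 (fixTriv0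
    (mem_orbit_of_word hA (w := 1) (by decide +kernel))
    (mem_orbit_of_word hA (w := 0x10c) (by decide +kernel))
    (mem_orbit_of_word hA (w := 0x10c0f) (by decide +kernel))
    (mem_orbit_of_word hA (w := 0x10c0f11) (by decide +kernel))
    (mem_orbit_of_word hA (w := 0x10c0e0e) (by decide +kernel))
    (mem_orbit_of_word hA (w := 0x10c0f0f) (by decide +kernel))
    (mem_orbit_of_word hA (w := 0x10c0e11) (by decide +kernel))
    (mem_orbit_of_word hA (w := 0x10c0e12) (by decide +kernel))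
    (mem_orbit_of_word hA (w := 0x10c0e) (by decide +kernel)))
    (p := 11) (e := 1) (by norm_num) (by rw [card1]; norm_num) (pp_mem (l := [0x021e1a]) (by decide +kernel))
    (pow_of_claim yp0) ncls0


end Cfsg.Agent.Spor.LyB
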